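import Cfsg.Agent.J2Sylow.StarPSL
import Cfsg.Agent.J2Sylow.InvSylow
import Cfsg.Agent.ClassicalGeometry.PSL2Klein
import Cfsg.Agent.Lib.KleinGen
import Cfsg.Agent.Dichotomy.Elem

/-!
# Odd order subgroups of `PSL₂(q)`, `q` odd, normalised by the normaliser of a four-group

* `eq_bot` : `W ≤ G ≅ PSL₂(F)`, `2 ≠ 0` in `F`, `|W|` odd, `V` a four-group, `N(V) ≤ N(W)`; then `W = 1`.
-/

set_option autoImplicit false

namespace Cfsg.Agent.CoreKilling.Psl

open Matrix
open Cfsg.Agent.ClassicalGeometry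
open Cfsg.Agent.ClassicalGeometry.KleinCount (CommInv)
open Cfsg.Agent.Dichotomy.Elem
open Cfsg.Agent.ClassicalGeometry.PSL2Klein (mk mk_eq_mk mk_eq_one mk_neg involution_iff sq_eq
  trace_eq_zero_of_sq commInv_iff one_ne_neg_one)

section PSL

variable {F : Type*} [Field F]

local notation "SL2" => Matrix.SpecialLinearGroup (Fin 2)
local notation "PSL2" => Matrix.ProjectiveSpecialLinearGroup (Fin 2)

/-- a lift of an element commuting with `mk C`, `(mk C)² ≠ 1`, commutes with `C` -/
theorem comm_lift (h2 : (2 : F) ≠ 0) {A C : SL2 F} (hc : mk C * mk C ≠ 1)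
    (h : mk A * mk C = mk C * mk A) : A.1 * C.1 = C.1 * A.1 := by
  have h' : mk (A * C) = mk (C * A) := h
  rcases mk_eq_mk.1 h' with h1 | h1
  · have := congrArg Subtype.val h1
    simpa using this
  · exfalso
    apply hc
    -- `trace C = 0`
    have h3 : A⁻¹ * C * A = -C := by
      have h4 : A⁻¹ * (C * A) = A⁻¹ * (-(A * C)) := by
        rw [h1, neg_neg]
      rw [← mul_assoc] at h4
      rw [h4, mul_neg, inv_mul_cancel_left]
    have h5 : - C.1.trace = C.1.trace := by
      have h6 : (A⁻¹ * C * A).1.trace = C.1.trace := by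
        rw [Matrix.SpecialLinearGroup.coe_mul, Matrix.SpecialLinearGroup.coe_mul,
          Matrix.trace_mul_comm, ← mul_assoc, ← Matrix.SpecialLinearGroup.coe_mul,
          mul_inv_cancel, Matrix.SpecialLinearGroup.coe_one, one_mul]
      rw [h3, Matrix.SpecialLinearGroup.coe_neg, Matrix.trace_neg] at h6
      exact h6
    have h7 : C.1.trace = 0 := by
      have : (2 : F) * C.1.trace = 0 := by linear_combination (-1) * h5
      exact (mul_eq_zero.1 this).resolve_left h2
    have h8 : C.1 * C.1 = -1 := by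
      rw [sq_eq, h7, zero_smul, zero_sub]
    exact (involution_iff h2).2 h8 |>.2

/-- an element centralising a four-group has square one -/
theorem sq_eq_one_psl (h2 : (2 : F) ≠ 0) {a b c : PSL2 F} (h : CommInv a b)
    (hac : a * c = c * a) (hbc : b * c = c * b) : c * c = 1 := by
  by_contra hcc
  obtain ⟨A, rfl⟩ := QuotientGroup.mk_surjective a
  obtain ⟨B, rfl⟩ := QuotientGroup.mk_surjective b
  obtain ⟨C, rfl⟩ := QuotientGroup.mk_surjective c
  have hP := (commInv_iff h2).1 h
  have hA := comm_lift h2 hcc hac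
  have hB := comm_lift h2 hcc hbc
  have hAns : ∀ c : F, A.1 ≠ c • (1 : Matrix (Fin 2) (Fin 2) F) := by
    intro c hc
    have hd := A.2
    rw [hc, det_smul, det_one, Fintype.card_fin, mul_one] at hd
    have hs := hP.sqA
    rw [hc, smul_mul_smul_comm, one_mul, ← pow_two, hd, one_smul] at hs
    have := congrFun (congrFun hs 0) 0
    simp at this
    apply h2
    linear_combination this
  obtain ⟨α, β, hαβ⟩ := NonsplitTorus.commutant A.1 C.1 hAns hA
  have hβ : β = 0 := by
    rw [hαβ] at hB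
    simp only [mul_add, add_mul, Matrix.mul_smul, Matrix.smul_mul, mul_one, one_mul] at hB
    have h3 : β • (B.1 * A.1) = β • (A.1 * B.1) := add_left_cancel hB
    rw [hP.anti, smul_neg, eq_neg_iff_add_eq_zero, ← two_smul F, smul_smul] at h3
    rcases smul_eq_zero.1 h3 with h4 | h4
    · exact (mul_eq_zero.1 h4).resolve_left h2
    · exfalso
      have h5 := congrArg Matrix.det h4
      rw [det_mul, A.2, B.2] at h5
      simp at h5
  rw [hβ, zero_smul, add_zero] at hαβ
  apply hcc
  show mk (C * C) = 1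
  have hd := C.2
  rw [hαβ, det_smul, det_one, Fintype.card_fin, mul_one] at hd
  rw [mk_eq_one]
  left
  apply Subtype.ext
  rw [Matrix.SpecialLinearGroup.coe_mul, Matrix.SpecialLinearGroup.coe_one, hαβ, smul_mul_smul_comm,
    one_mul, ← pow_two, hd, one_smul]

/-- an element of order three rotating a four-group -/
theorem exists_rot_psl (h2 : (2 : F) ≠ 0) {a b : PSL2 F} (h : CommInv a b) :
    ∃ g : PSL2 F, g * a * g⁻¹ = b ∧ g * b * g⁻¹ = a * b := by
  obtain ⟨A, rfl⟩ := QuotientGroup.mk_surjective a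
  obtain ⟨B, rfl⟩ := QuotientGroup.mk_surjective b
  have hP := (commInv_iff h2).1 h
  set x := A.1 with hx
  set y := B.1 with hy
  set z := x * y with hz
  have e1 : x * x = -1 := hP.sqA
  have e2 : y * y = -1 := hP.sqB
  have e3 : y * x = -z := by rw [hz, hP.anti, neg_neg]
  have e4 : x * z = -y := by rw [hz, ← mul_assoc, e1, neg_one_mul]
  have e5 : z * x = y := by rw [hz, mul_assoc, e3, mul_neg, e4, neg_neg]
  have e6 : z * y = -x := by rw [hz, mul_assoc, e2, mul_neg_one]
  have e7 : y * z = x := by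
    rw [hz, ← mul_assoc, e3, neg_mul, e6, neg_neg]
  have e8 : z * z = -1 := by
    conv_lhs => rw [hz]
    rw [mul_assoc, e7, e1]
  set w : Matrix (Fin 2) (Fin 2) F := (1 + x + y + z) with hw
  have hwx : w * x = y * w := by
    simp only [hw, add_mul, mul_add, one_mul, mul_one, e1, e2, e3, e5, e7]
    abel
  have hwy : w * y = z * w := by
    simp only [hw, add_mul, mul_add, one_mul, mul_one, e2, e5, e6, e8, ← hz]
    abel
  have hww : w * w = (2 : F) • w - (4 : F) • 1 := by
    simp only [hw, add_mul, mul_add, one_mul, mul_one, e1, e2, e3, e4, e5, e6, e7, e8, ← hz]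
    rw [show (4 : F) = 2 + 2 by norm_num]
    simp only [add_smul, two_smul, smul_add]
    abel
  have ht1 : x.trace = 0 := trace_eq_zero_of_sq A e1
  have ht2 : y.trace = 0 := trace_eq_zero_of_sq B e2
  have ht3 : z.trace = 0 := trace_eq_zero_of_sq (A * B) (by
    rw [Matrix.SpecialLinearGroup.coe_mul]; exact e8)
  have htw : w.trace = 2 := by
    rw [hw]
    simp [ht1, ht2, ht3]
  have hdet : w.det = 4 := by
    have h3 : (2 : F) * w.det = w.trace * w.trace - (w * w).trace := by
      simp [det_fin_two, trace_fin_two, Matrix.mul_apply, Fin.sum_univ_two]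
      ring
    rw [hww, trace_sub, trace_smul, trace_smul, htw, trace_one] at h3
    have h4 : (2 : F) * w.det = 2 * 4 := by
      rw [h3]; simp; ring
    exact mul_left_cancel₀ h2 h4
  set g : SL2 F := ⟨(2 : F)⁻¹ • w, by
    rw [det_smul, hdet, Fintype.card_fin]
    field_simp
    norm_num⟩ with hg
  have hgA : g * A = B * g := by
    apply Subtype.ext
    rw [Matrix.SpecialLinearGroup.coe_mul, Matrix.SpecialLinearGroup.coe_mul]
    show (2 : F)⁻¹ • w * x = y * ((2 : F)⁻¹ • w)
    rw [smul_mul_assoc, hwx, mul_smul_comm]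
  have hgB : g * B = (A * B) * g := by
    apply Subtype.ext
    rw [Matrix.SpecialLinearGroup.coe_mul, Matrix.SpecialLinearGroup.coe_mul,
      Matrix.SpecialLinearGroup.coe_mul]
    show (2 : F)⁻¹ • w * y = z * ((2 : F)⁻¹ • w)
    rw [smul_mul_assoc, hwy, mul_smul_comm]
  refine ⟨mk g, ?_, ?_⟩
  · show mk (g * A * g⁻¹) = mk B
    rw [hgA, mul_inv_cancel_right]
  · show mk (g * B * g⁻¹) = mk (A * B)
    rw [hgB, mul_inv_cancel_right]

end PSL

/-- the properties of `PSL₂(q)`, `q` odd, used below -/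
structure Good (G : Type*) [Group G] : Prop where
  comm : ∀ x g k : G, x * x ≠ 1 → g * x = x * g → k * x = x * k → g * k = k * g
  sq : ∀ a b c : G, CommInv a b → a * c = c * a → b * c = c * b → c * c = 1
  rot : ∀ a b : G, CommInv a b → ∃ g : G, g * a * g⁻¹ = b ∧ g * b * g⁻¹ = a * b

theorem good_psl {F : Type*} [Field F] (h2 : (2 : F) ≠ 0) :
    Good (Matrix.ProjectiveSpecialLinearGroup (Fin 2) F) :=
  ⟨fun _ _ _ => J2Sylow.StarPSL.comm_of_comm h2, fun _ _ _ => sq_eq_one_psl h2,
    fun _ _ => exists_rot_psl h2⟩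

theorem CommInv.map {G H : Type*} [Group G] [Group H] (e : G ≃* H) {a b : G} (h : CommInv a b) :
    CommInv (e a) (e b) where
  hx := fun h1 => h.hx ((map_eq_one_iff e e.injective).1 h1)
  hy := fun h1 => h.hy ((map_eq_one_iff e e.injective).1 h1)
  hxy := fun h1 => h.hxy (e.injective h1)
  xx := by rw [← map_mul, h.xx, map_one]
  yy := by rw [← map_mul, h.yy, map_one]
  comm := by rw [← map_mul, h.comm, map_mul]

theorem Good.of_mulEquiv {G H : Type*} [Group G] [Group H] (e : G ≃* H) (hH : Good H) : Good G where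
  comm := by
    intro x g k hx hg hk
    apply e.injective
    rw [map_mul, map_mul]
    apply hH.comm (e x)
    · rw [← map_mul]
      intro h
      exact hx ((map_eq_one_iff e e.injective).1 h)
    · rw [← map_mul, hg, map_mul]
    · rw [← map_mul, hk, map_mul]
  sq := by
    intro a b c hab hac hbc
    apply e.injective
    rw [map_mul, map_one]
    refine hH.sq (e a) (e b) _ (CommInv.map e hab) ?_ ?_
    · rw [← map_mul, hac, map_mul]
    · rw [← map_mul, hbc, map_mul]
  rot := by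
    intro a b hab
    obtain ⟨g, h1, h2⟩ := hH.rot _ _ (CommInv.map e hab)
    refine ⟨e.symm g, ?_, ?_⟩
    · apply e.injective
      simpa using h1
    · apply e.injective
      simpa using h2

section Main

variable {G : Type*} [Group G]

/-- a four-group `⟨a, b⟩` rotated by `g` -/
structure Rot (a b g : G) : Prop where
  pair : CommInv a b
  ga : g * a * g⁻¹ = b
  gb : g * b * g⁻¹ = a * b

theorem Rot.next {a b g : G} (h : Rot a b g) : Rot b (a * b) g where
  pair := by
    refine ⟨h.pair.hy, ?_, ?_, h.pair.yy, ?_, ?_⟩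
    · intro h1
      apply h.pair.hxy
      have h2 : a * b * b = b := by rw [h1, one_mul]
      rwa [mul_assoc, h.pair.yy, mul_one] at h2
    · intro h1
      apply h.pair.hx
      have h2 : 1 * b = a * b := by rw [one_mul]; exact h1
      exact (mul_right_cancel h2).symm
    · rw [mul_assoc, ← mul_assoc b, ← h.pair.comm, mul_assoc, h.pair.yy, mul_one, h.pair.xx]
    · rw [← mul_assoc, ← h.pair.comm]
  ga := h.gb
  gb := by
    have h1 : g * (a * b) * g⁻¹ = (g * a * g⁻¹) * (g * b * g⁻¹) := by group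
    rw [h1, h.ga, h.gb]

theorem Rot.mul_mul {a b g : G} (h : Rot a b g) : b * (a * b) = a := by
  rw [h.pair.comm, ← mul_assoc, h.pair.yy, one_mul]

/-- odd elements with square one are trivial -/
theorem eq_one_of_sq {W : Subgroup G} (hW : Odd (Nat.card W)) {x : G} (hx : x ∈ W)
    (h : x * x = 1) : x = 1 := by
  have h1 : orderOf x ∣ 2 := orderOf_dvd_of_pow_eq_one (by rw [pow_two, h])
  have h2 : orderOf x ∣ Nat.card W := Subgroup.orderOf_dvd_natCard W hx
  have h3 : orderOf x ∣ 1 := by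
    have := Nat.dvd_gcd h1 h2
    rwa [(Nat.coprime_two_left.2 hW).gcd_eq_one] at this
  exact orderOf_eq_one_iff.1 (Nat.dvd_one.1 h3)

variable [Finite G]

/-- the invariant Sylow subgroup `P` of `W` is not centralised by `a` -/
theorem main (hG : Good G) {W : Subgroup G} (hW : Odd (Nat.card W)) {a b g : G} (h : Rot a b g)
    (haW : ∀ x ∈ W, a * x * a⁻¹ ∈ W) (hbW : ∀ x ∈ W, b * x * b⁻¹ ∈ W)
    (hgW : ∀ x ∈ W, g * x * g⁻¹ ∈ W) {r : ℕ} (hr : r.Prime) {P : Subgroup G} (hPW : P ≤ W)
    (hP : IsPGroup r P) (hPi : ¬ r ∣ P.relIndex W) (haP : ∀ x ∈ P, a * x * a⁻¹ ∈ P)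
    (hbP : ∀ x ∈ P, b * x * b⁻¹ ∈ P) (hcen : ∀ x ∈ P, a * x = x * a) : P = ⊥ := by
  have ha2 := h.pair.xx
  have hb2 := h.pair.yy
  have hab := h.pair.comm
  have hbinv : b⁻¹ = b := inv_eq_of_mul_eq_one_right hb2
  have hainv : a⁻¹ = a := inv_eq_of_mul_eq_one_right ha2
  have hA : IsElementaryAbelian 2 (four a b) := elem_four ha2 hb2 hab
  have hgab : g * (a * b) * g⁻¹ = a := by
    have h1 : g * (a * b) * g⁻¹ = (g * a * g⁻¹) * (g * b * g⁻¹) := by group
    rw [h1, h.ga, h.gb, h.mul_mul]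
  -- conjugation by `g⁻¹` preserves the four-group
  have hgi : ∀ s ∈ four a b, g⁻¹ * s * g ∈ four a b := by
    intro s hs
    rw [mem_four_iff ha2 hb2 hab] at hs ⊢
    rcases hs with rfl | rfl | rfl | rfl
    · left; group
    · right; right; right
      nth_rewrite 1 [← hgab]; group
    · right; left
      nth_rewrite 1 [← h.ga]; group
    · right; right; left
      nth_rewrite 1 [← h.gb]; group
  have hAW : ∀ s ∈ four a b, ∀ x ∈ W, s * x * s⁻¹ ∈ W := by
    intro s hs x hx
    rw [mem_four_iff ha2 hb2 hab] at hs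
    rcases hs with rfl | rfl | rfl | rfl
    · simpa using hx
    · exact haW x hx
    · exact hbW x hx
    · have := haW _ (hbW x hx)
      simpa [mul_assoc] using this
  have hAP : ∀ s ∈ four a b, ∀ x ∈ P, s * x * s⁻¹ ∈ P := by
    intro s hs x hx
    rw [mem_four_iff ha2 hb2 hab] at hs
    rcases hs with rfl | rfl | rfl | rfl
    · simpa using hx
    · exact haP x hx
    · exact hbP x hx
    · have := haP _ (hbP x hx)
      simpa [mul_assoc] using this
  -- the conjugate of `P`
  set Q : Subgroup G := P.map (MulAut.conj g).toMonoidHom with hQ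
  have hQmem : ∀ x, x ∈ Q ↔ g⁻¹ * x * g ∈ P := by
    intro x
    constructor
    · rintro ⟨y, hy, rfl⟩
      have : g⁻¹ * (g * y * g⁻¹) * g = y := by group
      show g⁻¹ * (g * y * g⁻¹) * g ∈ P
      rw [this]
      exact hy
    · intro hx
      exact ⟨_, hx, by show g * (g⁻¹ * x * g) * g⁻¹ = x; group⟩
  have hgW' : W.map (MulAut.conj g).toMonoidHom = W := by
    apply Subgroup.eq_of_le_of_card_ge
    · rintro _ ⟨x, hx, rfl⟩
      exact hgW x hx
    · rw [Subgroup.card_map_of_injective (MulAut.conj g).injective]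
  have hQW : Q ≤ W := by
    rw [← hgW']
    exact Subgroup.map_mono hPW
  have hQp : IsPGroup r Q := hP.map _
  have hQi : ¬ r ∣ Q.relIndex W := by
    have h1 : Q.relIndex W = P.relIndex W := by
      conv_lhs => rw [← hgW', hQ]
      exact Subgroup.relIndex_map_map_of_injective _ _ (MulAut.conj g).injective
    rwa [h1]
  have hAQ : ∀ s ∈ four a b, ∀ x ∈ Q, s * x * s⁻¹ ∈ Q := by
    intro s hs x hx
    rw [hQmem] at hx ⊢
    have h1 := hAP _ (hgi s hs) _ hx
    have h2 : g⁻¹ * s * g * (g⁻¹ * x * g) * (g⁻¹ * s * g)⁻¹ = g⁻¹ * (s * x * s⁻¹) * g := by group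
    rwa [h2] at h1
  obtain ⟨c, hcW, hcA, hc⟩ := J2Sylow.InvSylow.conj_of_inv hr (isPGroup_of_elem hA) hW hAW
    hPW hP hPi hAP hQW hQp hQi hAQ
  -- `Q` is centralised by `a` and by `b`
  rw [eq_bot_iff]
  intro p hp
  have hq : g * p * g⁻¹ ∈ Q := ⟨p, hp, rfl⟩
  have h1 : b * (g * p * g⁻¹) = (g * p * g⁻¹) * b := by
    have h2 := hcen p hp
    have h3 : g * (a * p) * g⁻¹ = g * (p * a) * g⁻¹ := by rw [h2]
    have h4 : g * (a * p) * g⁻¹ = (g * a * g⁻¹) * (g * p * g⁻¹) := by group
    have h5 : g * (p * a) * g⁻¹ = (g * p * g⁻¹) * (g * a * g⁻¹) := by group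
    rwa [h4, h5, h.ga] at h3
  have h6 : a * (g * p * g⁻¹) = (g * p * g⁻¹) * a := by
    have h7 := hcen _ ((hc _).1 hq)
    have h8 := hcA a (left_mem_four a b)
    set q := g * p * g⁻¹
    have h9 : a * q = c * (a * (c⁻¹ * q * c)) * c⁻¹ := by
      have : c * (a * (c⁻¹ * q * c)) * c⁻¹ = (c * a) * c⁻¹ * q := by group
      rw [this, ← h8]; group
    have h10 : q * a = c * ((c⁻¹ * q * c) * a) * c⁻¹ := by
      have : c * ((c⁻¹ * q * c) * a) * c⁻¹ = q * (c * a) * c⁻¹ := by group
      rw [this, ← h8]; group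
    rw [h9, h10, h7]
  have h11 := hG.sq a b _ h.pair h6 h1
  have h12 := eq_one_of_sq hW (hQW hq) h11
  rw [Subgroup.mem_bot]
  have h13 : p = g⁻¹ * (g * p * g⁻¹) * g := by group
  rw [h13, h12]
  group

/-- **Odd subgroups of `PSL₂(q)`** normalised by the normaliser of a four-group are trivial. -/
theorem eq_bot_of_rot (hG : Good G) {W : Subgroup G} (hW : Odd (Nat.card W)) {a b g : G}
    (h : Rot a b g) (haW : ∀ x ∈ W, a * x * a⁻¹ ∈ W) (hbW : ∀ x ∈ W, b * x * b⁻¹ ∈ W)
    (hgW : ∀ x ∈ W, g * x * g⁻¹ ∈ W) : W = ⊥ := by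
  by_contra hne
  have ha2 := h.pair.xx
  have hb2 := h.pair.yy
  have hab := h.pair.comm
  have hA : IsElementaryAbelian 2 (four a b) := elem_four ha2 hb2 hab
  have hcard : Nat.card W ≠ 1 := fun h1 => hne (Subgroup.card_eq_one.1 h1)
  set r := (Nat.card W).minFac with hr_def
  have hr : r.Prime := Nat.minFac_prime hcard
  have hrW : r ∣ Nat.card W := Nat.minFac_dvd _
  have habW : ∀ x ∈ W, (a * b) * x * (a * b)⁻¹ ∈ W := by
    intro x hx
    have := haW _ (hbW x hx)
    simpa [mul_assoc] using this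
  have hAW : ∀ s ∈ four a b, ∀ x ∈ W, s * x * s⁻¹ ∈ W := by
    intro s hs x hx
    rw [mem_four_iff ha2 hb2 hab] at hs
    rcases hs with rfl | rfl | rfl | rfl
    · simpa using hx
    · exact haW x hx
    · exact hbW x hx
    · exact habW x hx
  obtain ⟨P, -, hPW, hP, hPi, hAP⟩ := J2Sylow.InvSylow.exists_inv_sylow hr (isPGroup_of_elem hA) hW
    hAW (bot_le : (⊥ : Subgroup G) ≤ W) (IsPGroup.of_bot) (by
      intro s _ x hx
      rw [Subgroup.mem_bot] at hx ⊢
      rw [hx]; group)
  have hP1 : P ≠ ⊥ := by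
    rintro rfl
    apply hPi
    rw [Subgroup.relIndex_bot_left]
    exact hrW
  have haP : ∀ x ∈ P, a * x * a⁻¹ ∈ P := hAP a (left_mem_four a b)
  have hbP : ∀ x ∈ P, b * x * b⁻¹ ∈ P := hAP b (right_mem_four a b)
  have habP : ∀ x ∈ P, (a * b) * x * (a * b)⁻¹ ∈ P :=
    hAP _ (mul_mem (left_mem_four a b) (right_mem_four a b))
  -- the centre of `P`
  have : Fact r.Prime := ⟨hr⟩
  have : Nontrivial P := (Subgroup.nontrivial_iff_ne_bot P).2 hP1
  have hZ : Nontrivial (Subgroup.center P) := hP.center_nontrivial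
  set Z : Subgroup G := (Subgroup.center P).map P.subtype with hZdef
  have hZP : Z ≤ P := Subgroup.map_subtype_le _
  have hZc : ∀ z ∈ Z, ∀ p ∈ P, p * z = z * p := by
    rintro _ ⟨z, hz, rfl⟩ p hp
    exact congrArg Subtype.val (Subgroup.mem_center_iff.1 hz ⟨p, hp⟩)
  have hZmem : ∀ z ∈ P, (∀ p ∈ P, p * z = z * p) → z ∈ Z := by
    intro z hz h1
    exact ⟨⟨z, hz⟩, Subgroup.mem_center_iff.2 fun p => Subtype.ext (h1 p p.2), rfl⟩
  have hZ1 : Z ≠ ⊥ := by
    intro h1
    have h2 : Subgroup.center P = ⊥ :=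
      (Subgroup.map_eq_bot_iff_of_injective _ P.subtype_injective).1 h1
    exact (Subgroup.nontrivial_iff_ne_bot _).1 hZ h2
  have hZinv : ∀ s ∈ four a b, ∀ z ∈ Z, s * z * s⁻¹ ∈ Z := by
    intro s hs z hz
    refine hZmem _ (hAP s hs z (hZP hz)) ?_
    intro p hp
    have h1 : s⁻¹ * p * s ∈ P := by
      have := hAP _ (inv_mem hs) p hp
      simpa using this
    have h2 := hZc z hz _ h1
    have h3 : p * (s * z * s⁻¹) = s * ((s⁻¹ * p * s) * z) * s⁻¹ := by group
    have h4 : (s * z * s⁻¹) * p = s * (z * (s⁻¹ * p * s)) * s⁻¹ := by group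
    rw [h3, h4, h2]
  -- an involution of the four-group centralises an element of `Z`
  have key : ∀ s : G, s * s = 1 → Z ⊓ Subgroup.centralizer {s} ≠ ⊥ → ∀ x ∈ P, s * x = x * s := by
    intro s hs hne' x hx
    obtain ⟨z, hz⟩ := Subgroup.ne_bot_iff_exists_ne_one.1 hne'
    obtain ⟨⟨z, hz⟩, hz1⟩ : ∃ z : ↥(Z ⊓ Subgroup.centralizer {s}), z.1 ≠ 1 :=
      ⟨z, fun h => hz (Subtype.ext h)⟩
    apply hG.comm z s x
    · intro h1
      exact hz1 (eq_one_of_sq hW (hPW (hZP hz.1)) h1)
    · exact (Subgroup.mem_centralizer_singleton_iff.1 hz.2).symm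
    · exact hZc z hz.1 x hx
  have hone : Z ⊓ Subgroup.centralizer {a} ≠ ⊥ ∨ Z ⊓ Subgroup.centralizer {b} ≠ ⊥ ∨
      Z ⊓ Subgroup.centralizer {a * b} ≠ ⊥ := by
    by_contra hcon
    push Not at hcon
    obtain ⟨h1, h2, h3⟩ := hcon
    apply hZ1
    rw [eq_bot_iff]
    exact Lib.KleinGen.le_of_klein Z ⊥
      ((Odd.of_dvd_nat hW (Subgroup.card_dvd_of_le (hZP.trans hPW)))) a b ha2 hb2 hab
      (hZinv a (left_mem_four a b)) (hZinv b (right_mem_four a b)) h1.le h2.le h3.le
  rcases hone with h1 | h1 | h1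
  · exact hP1 (main hG hW h haW hbW hgW hr hPW hP hPi haP hbP (key a ha2 h1))
  · exact hP1 (main hG hW h.next hbW habW hgW hr hPW hP hPi hbP habP (key b hb2 h1))
  · have h2 := h.next.next
    rw [h.mul_mul] at h2
    exact hP1 (main hG hW h2 habW haW hgW hr hPW hP hPi habP haP
      (key (a * b) h.next.pair.yy h1))

/-- the same with the normaliser of the four-group -/
theorem eq_bot {F : Type*} [Field F] (h2 : (2 : F) ≠ 0)
    (e : G ≃* Matrix.ProjectiveSpecialLinearGroup (Fin 2) F) {W : Subgroup G}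
    (hW : Odd (Nat.card W)) {a b : G} (ha1 : a ≠ 1) (hb1 : b ≠ 1) (hne : a ≠ b) (ha : a * a = 1)
    (hb : b * b = 1) (hab : a * b = b * a)
    (hN : Subgroup.normalizer (four a b : Set G) ≤ Subgroup.normalizer (W : Set G)) : W = ⊥ := by
  have hG : Good G := Good.of_mulEquiv e (good_psl h2)
  have hp : CommInv a b := ⟨ha1, hb1, hne, ha, hb, hab⟩
  obtain ⟨g, hga, hgb⟩ := hG.rot a b hp
  have hconj : ∀ n ∈ Subgroup.normalizer (four a b : Set G), ∀ x ∈ W, n * x * n⁻¹ ∈ W :=
    fun n hn x hx => (Subgroup.mem_normalizer_iff.1 (hN hn) x).1 hx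
  refine eq_bot_of_rot hG hW ⟨hp, hga, hgb⟩
    (hconj a (Subgroup.le_normalizer (left_mem_four a b)))
    (hconj b (Subgroup.le_normalizer (right_mem_four a b))) (hconj g ?_)
  -- `g` normalises the four-group
  have hab' : a * b ∈ four a b := mul_mem (left_mem_four a b) (right_mem_four a b)
  have hgab : g * (a * b) * g⁻¹ = a := by
    have h1 : g * (a * b) * g⁻¹ = (g * a * g⁻¹) * (g * b * g⁻¹) := by group
    rw [h1, hga, hgb, Rot.mul_mul ⟨hp, hga, hgb⟩]
  rw [Subgroup.mem_normalizer_iff]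
  intro x
  constructor
  · intro hx
    rw [mem_four_iff ha hb hab] at hx
    rcases hx with rfl | rfl | rfl | rfl
    · have : g * 1 * g⁻¹ = 1 := by group
      rw [this]; exact one_mem _
    · rw [hga]; exact right_mem_four _ _
    · rw [hgb]; exact hab'
    · rw [hgab]; exact left_mem_four _ _
  · intro hx
    have h3 : x = g⁻¹ * (g * x * g⁻¹) * g := by group
    rw [h3]
    rw [mem_four_iff ha hb hab] at hx
    rcases hx with h | h | h | h
    · have : g⁻¹ * 1 * g = 1 := by group
      rw [h, this]; exact one_mem _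
    · have : g⁻¹ * a * g = a * b := by
        nth_rewrite 1 [← hgab]; group
      rw [h, this]; exact hab'
    · have : g⁻¹ * b * g = a := by
        nth_rewrite 1 [← hga]; group
      rw [h, this]; exact left_mem_four _ _
    · have : g⁻¹ * (a * b) * g = b := by
        nth_rewrite 1 [← hgb]; group
      rw [h, this]; exact right_mem_four _ _

end Main

end Cfsg.Agent.CoreKilling.Psl
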