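import Cfsg.Agent.SuzukiRankOne.PSUModel
import Cfsg.Agent.SuzukiRankOne.M1
import Cfsg.Agent.SignalizersComponents.BalLocal
import Cfsg.Agent.LieRecognition.RankOneInvolutions

/-!
# Cores of involution centralizers in `PSU₃(2^n)`

* `core_eq_bot_of_setup` : in a simple group with a faithful rank-one set-up and 2-rank at least 2 the
  centralizers of involutions have trivial cores.
* `core_eq_bot_psu` : the case `PSU₃(2^n)`.
* `eq_bot` : the `LocalSetup` form.
-/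

set_option autoImplicit false

namespace Cfsg.Agent.CoreKilling.PSU

open Cfsg Subgroup MulAction
open Cfsg.Agent.SignalizersComponents.BalLocal

theorem core_eq_bot_of_setup {G Ω : Type*} [Group G] [Finite G] [IsSimpleGroup G] [MulAction G Ω]
    [FaithfulSMul G Ω] {a : Ω} {t : G} {Q : Subgroup G} (hS : IsRankOneSetup G Ω a t Q)
    (h2 : ∃ x y : G, x ≠ 1 ∧ y ≠ 1 ∧ x ≠ y ∧ x * x = 1 ∧ y * y = 1 ∧ x * y = y * x)
    {x : G} (hx : orderOf x = 2) : centralizerPPrimeCore 2 x = ⊥ := by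
  have hx1 : x ≠ 1 := by
    rintro rfl
    rw [orderOf_one] at hx
    omega
  have hx2 : x * x = 1 := by rw [← pow_two, ← hx, pow_orderOf_eq_one]
  obtain ⟨w, hw1, hw2, hwa⟩ :=
    Cfsg.Agent.LieRecognition.RankOneInvolutions.exists_involution_fixing hS a
  obtain ⟨g, hg⟩ := Cfsg.Agent.LieRecognition.RankOneInvolutions.isConj_involutions hS hw1 hw2 hx1 hx2
  have h1 := Cfsg.Agent.SuzukiRankOne.M1.core_eq_bot hS h2
    (s := w) ⟨mem_stabilizer_iff.2 hwa, hw1, hw2⟩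
  rw [← hg, ← core_conj, h1, Subgroup.map_bot]

/-- the core of the centralizer of an involution of a simple `PSU₃(2^n)` is trivial -/
theorem core_eq_bot_psu {F : Type*} [Field F] [Finite F] {n : ℕ} (hn : 1 ≤ n)
    (hF : Nat.card F = (2 ^ n) ^ 2) [IsSimpleGroup (Cfsg.PSU 3 F (2 ^ n))]
    (h2 : ∃ x y : Cfsg.PSU 3 F (2 ^ n),
      x ≠ 1 ∧ y ≠ 1 ∧ x ≠ y ∧ x * x = 1 ∧ y * y = 1 ∧ x * y = y * x)
    {x : Cfsg.PSU 3 F (2 ^ n)} (hx : orderOf x = 2) : centralizerPPrimeCore 2 x = ⊥ := by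
  have : Fintype F := Fintype.ofFinite F
  have : Fact (Nat.Prime 2) := ⟨Nat.prime_two⟩
  have hF' : Fintype.card F = 2 ^ (n * 2) := by
    rw [← Nat.card_eq_fintype_card, hF, pow_mul]
  have hch : CharP F 2 := charP_of_card_eq_prime_pow hF'
  have hσ : Fact (∀ x, iterateFrobenius F 2 n (iterateFrobenius F 2 n x) = x) := by
    refine ⟨fun x => ?_⟩
    rw [iterateFrobenius_def, iterateFrobenius_def, ← pow_mul, ← pow_two, ← hF,
      Nat.card_eq_fintype_card, FiniteField.pow_card]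
  obtain ⟨H, S, w, -, hfaith, hsetup, -, -⟩ :=
    Cfsg.Agent.SuzukiRankOne.PSUModel.exists_model (σ := iterateFrobenius F 2 n) hn
      (fun x => iterateFrobenius_def 2 n x) hF
  exact core_eq_bot_of_setup hsetup h2 hx

/-- the case `PSU₃(2^n)` of the end game of S1290 and S1291 -/
theorem eq_bot {K : Type*} [Group K] [Finite K] (T : Sylow 2 K) (V : Subgroup K)
    (hl : LocalSetup T V) {F : Type*} [Field F] [Fintype F] {n : ℕ} (hn : 1 ≤ n)
    (hF : Fintype.card F = (2 ^ n) ^ 2) (e : K ≃* Cfsg.PSU 3 F (2 ^ n)) (hs : IsSimpleGroup K) :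
    V = ⊥ := by
  have : Finite (Cfsg.PSU 3 F (2 ^ n)) := Finite.of_equiv _ e.toEquiv
  have : IsSimpleGroup (Cfsg.PSU 3 F (2 ^ n)) := (MulEquiv.isSimpleGroup_congr e).mp hs
  obtain ⟨T', hl'⟩ := hl.map_equiv e
  obtain ⟨x, -, y, -, hx1, hy1, hne, hx2, hy2, hxy⟩ :=
    Cfsg.Agent.TwoGenCore.not_pRankLE_one_iff.mp hl'.rank
  have h1 := hl'.eq_bot_of_core fun z hz =>
    core_eq_bot_psu hn (by rw [Nat.card_eq_fintype_card]; exact hF)
      ⟨x, y, hx1, hy1, hne, hx2, hy2, hxy⟩ hz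
  exact (Subgroup.map_eq_bot_iff_of_injective _ e.injective).1 h1

end Cfsg.Agent.CoreKilling.PSU
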